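import Groth.Agent.Lib.BiratPt18.Main
import Groth.Agent.Lib.CanonMod.Murthy27
import Groth.Agent.Lib.Spread18.OpenImm
import Mathlib

/-!
Van der Waerden purity: at a generic point of the exceptional locus of a proper birational morphism
to a scheme with factorial local rings, the local ring of the source has dimension at most one.
-/

set_option autoImplicit false
set_option linter.style.haveILetI false
universe u

open CategoryTheory AlgebraicGeometry

namespace Groth.Agent.VdWPurity4

theorem ringKrullDim_fromSpecStalk {X : Scheme.{u}} (x : X) (p : Spec (X.presheaf.stalk x)) :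
    ringKrullDim (X.presheaf.stalk (X.fromSpecStalk x p)) = (p.asIdeal.height : WithBot ℕ∞) := by
  rw [ringKrullDim_stalk_eq_coheight, idealHeight_eq_coheight]
  have hemb := (X.fromSpecStalk x).isEmbedding
  have hmono : StrictMono (fun a : Spec (X.presheaf.stalk x) => X.fromSpecStalk x a) := by
    intro a b hab
    refine lt_of_le_not_ge ((hab.le : b ⤳ a).map (X.fromSpecStalk x).continuous) fun h => ?_
    exact hab.not_ge (hemb.isInducing.specializes_iff.mp h)
  rw [← Order.coheight_eq_of_strictMono _ hmono ?_ p]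
  intro a b hab
  have hax : X.fromSpecStalk x a ⤳ x := by
    have : X.fromSpecStalk x a ∈ Set.range (X.fromSpecStalk x) := ⟨a, rfl⟩
    rw [Scheme.range_fromSpecStalk] at this
    exact this
  have hbx : b ⤳ x := Specializes.trans (hab.le : b ⤳ X.fromSpecStalk x a) hax
  obtain ⟨b', rfl⟩ : b ∈ Set.range (X.fromSpecStalk x) := by
    rw [Scheme.range_fromSpecStalk]; exact hbx
  refine ⟨b', lt_of_le_not_ge (hemb.isInducing.specializes_iff.mp hab.le) fun h => ?_, rfl⟩
  exact hab.not_ge ((h : a ⤳ b').map (X.fromSpecStalk x).continuous)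

theorem fraction_data {Y : Scheme.{u}} [IsIntegral Y] (y : Y) [UniqueFactorizationMonoid (Y.presheaf.stalk y)]
    (η : Y) (hη : η = genericPoint Y) (h : η ⤳ y) :
    Function.Injective (Y.presheaf.stalkSpecializes h) ∧
      ∀ v : Y.presheaf.stalk η, ∃ a b : Y.presheaf.stalk y, IsRelPrime a b ∧
        b ≠ 0 ∧ v * Y.presheaf.stalkSpecializes h b = Y.presheaf.stalkSpecializes h a := by
  subst hη
  refine ⟨IsFractionRing.injective (Y.presheaf.stalk y) Y.functionField, fun v => ?_⟩
  obtain ⟨a, b, hab, hv⟩ := IsFractionRing.exists_reduced_fraction (A := Y.presheaf.stalk y) (K := Y.functionField) v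
  refine ⟨a, b, hab, nonZeroDivisors.ne_zero b.2, ?_⟩
  rw [← hv]
  exact IsLocalization.mk'_spec Y.functionField a b

variable {X Y : Scheme.{u}} [IsIntegral X] [IsIntegral Y] [IsLocallyNoetherian X] [IsLocallyNoetherian Y]
  (f : X ⟶ Y) [IsProper f]

/-- A point with bijective stalk map over a normal point lies over the isomorphism locus. -/
theorem exists_isIso_of_bijective_stalkMap (hgen : f (genericPoint X) = genericPoint Y)
    (hbir : IsIso (f.stalkMap (genericPoint X))) (x : X) (hn : IsIntegrallyClosed (Y.presheaf.stalk (f x)))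
    (hbij : IsIso (f.stalkMap x)) : ∃ V : Y.Opens, f x ∈ V ∧ IsIso (f ∣_ V) := by
  obtain ⟨U, hxU, hU⟩ := Spread18.exists_openImmersion_nhd f x hbij
  haveI := hU
  have hq : f.QuasiFiniteAt x := by
    have h1 := (U.ι ≫ f).quasiFiniteAt ⟨x, hxU⟩
    exact Scheme.Hom.quasiFiniteAt_comp_iff_of_isOpenImmersion.mp h1
  exact BiratPt18.exists_isIso_restrict f hgen hbir x hn hq

theorem ringKrullDim_stalk_le_one (hgen : f (genericPoint X) = genericPoint Y)
    (hbir : IsIso (f.stalkMap (genericPoint X)))
    (hreg : ∀ y : Y, IsDomain (Y.presheaf.stalk y) ∧ UniqueFactorizationMonoid (Y.presheaf.stalk y))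
    (x : X) (hx : ∀ V : Y.Opens, f x ∈ V → ¬ IsIso (f ∣_ V))
    (hmax : ∀ x' : X, x' ⤳ x → (∀ V : Y.Opens, f x' ∈ V → ¬ IsIso (f ∣_ V)) → x' = x) :
    ringKrullDim (X.presheaf.stalk x) ≤ 1 := by
  haveI := (hreg (f x)).1
  haveI := (hreg (f x)).2
  set η := genericPoint X with hη
  have hηx : η ⤳ x := genericPoint_specializes x
  have hfη : f η ⤳ f x := hηx.map f.continuous
  obtain ⟨hspY, hfrac⟩ := fraction_data (f x) (f η) hgen hfη
  let φ := f.stalkMap x
  have hspX : Function.Injective (X.presheaf.stalkSpecializes hηx) :=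
    IsFractionRing.injective (X.presheaf.stalk x) X.functionField
  have hcomm : ∀ a, X.presheaf.stalkSpecializes hηx (φ a) =
      f.stalkMap η (Y.presheaf.stalkSpecializes hfη a) :=
    fun a => (Scheme.Hom.stalkSpecializes_stalkMap_apply f _ _ hηx a).symm
  have hψ := ConcreteCategory.bijective_of_isIso (f.stalkMap η)
  have hinj : Function.Injective φ := fun a c hac => hspY (hψ.1 (by rw [← hcomm, ← hcomm, hac]))
  have hns : ¬ Function.Surjective φ := fun hs => by
    haveI : IsIso φ := (ConcreteCategory.isIso_iff_bijective φ).mpr ⟨hinj, hs⟩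
    obtain ⟨V, hV, hiso⟩ := exists_isIso_of_bijective_stalkMap f hgen hbir x inferInstance this
    exact hx V hV hiso
  simp only [Function.Surjective, not_forall, not_exists] at hns
  obtain ⟨a, ha⟩ := hns
  obtain ⟨v, hv⟩ := hψ.2 (X.presheaf.stalkSpecializes hηx a)
  obtain ⟨g, h, hgh, hh0, hvgh⟩ := hfrac v
  have hrel : a * φ h = φ g := hspX (by
    rw [map_mul, hcomm, hcomm, ← hv, ← map_mul, hvgh])
  have hhu : ¬ IsUnit (φ h) := fun hu => by
    obtain ⟨w, hw⟩ := IsUnit.exists_right_inv (isUnit_of_map_unit φ.hom h hu)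
    refine ha (g * w) ?_
    rw [map_mul, ← hrel, mul_assoc, ← map_mul, hw, map_one, mul_one]
  let b := φ h
  obtain ⟨p, hp⟩ : (Ideal.span {b}).minimalPrimes.Nonempty :=
    Set.nonempty_coe_sort.mp (Ideal.nonempty_minimalPrimes (fun e => hhu (Ideal.span_singleton_eq_top.mp e)))
  haveI := hp.1.1
  have hp1 : p.height ≤ 1 := Ideal.height_le_one_of_isPrincipal_of_mem_minimalPrimes (Ideal.span {b}) p hp
  let P : Spec (X.presheaf.stalk x) := ⟨p, hp.1.1⟩
  let Q : Spec (Y.presheaf.stalk (f x)) := Spec.map φ P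
  have hbP : b ∈ p := hp.1.2 (Ideal.mem_span_singleton_self b)
  have hhQ : h ∈ Q.asIdeal := hbP
  have hgQ : g ∈ Q.asIdeal := by
    show φ g ∈ p
    rw [← hrel]; exact Ideal.mul_mem_left _ _ hbP
  have hQ2 : (2 : ℕ∞) ≤ Q.asIdeal.height := by
    refine CanonModLib.two_le_height_of_no_prime (Ideal.span {g, h}) ?_ ?_ Q ?_
    · intro e
      exact hh0 ((Ideal.mem_bot).mp (e ▸ Ideal.subset_span (by simp)))
    · intro q hq hle
      refine hq.not_unit (hgh ?_ ?_)
      · exact Ideal.mem_span_singleton.mp (hle (Ideal.subset_span (by simp)))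
      · exact Ideal.mem_span_singleton.mp (hle (Ideal.subset_span (by simp)))
    · exact Ideal.span_le.mpr (by rintro r (rfl | rfl) <;> assumption)
  let x' := X.fromSpecStalk x P
  have hfx' : f x' = Y.fromSpecStalk (f x) Q := by
    have e := congrArg (fun t : Spec (X.presheaf.stalk x) ⟶ Y => t P)
      (Scheme.SpecMap_stalkMap_fromSpecStalk f (x := x))
    simp only [Scheme.Hom.comp_apply] at e
    exact e.symm
  have hx'x : x' ⤳ x := by
    have : x' ∈ Set.range (X.fromSpecStalk x) := ⟨P, rfl⟩
    rw [Scheme.range_fromSpecStalk] at this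
    exact this
  have hex' : ∀ V : Y.Opens, f x' ∈ V → ¬ IsIso (f ∣_ V) := by
    intro V hV hiso
    have hiso' : IsIso ((f ∣_ V).stalkMap ⟨x', hV⟩) := inferInstance
    have h1 : IsIso (f.stalkMap x') :=
      ((MorphismProperty.isomorphisms CommRingCat).arrow_mk_iso_iff
        (morphismRestrictStalkMap f V ⟨x', hV⟩)).1 hiso'
    have h2 : ringKrullDim (Y.presheaf.stalk (f x')) = ringKrullDim (X.presheaf.stalk x') :=
      ringKrullDim_eq_of_ringEquiv (asIso (f.stalkMap x')).commRingCatIsoToRingEquiv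
    rw [hfx', ringKrullDim_fromSpecStalk, ringKrullDim_fromSpecStalk] at h2
    have h3 : Q.asIdeal.height = p.height := WithBot.coe_injective h2
    rw [h3] at hQ2
    exact absurd (hQ2.trans hp1) (by norm_num)
  have hxx : x' = x := hmax x' hx'x hex'
  have h4 := ringKrullDim_fromSpecStalk x P
  change ringKrullDim (X.presheaf.stalk x') = _ at h4
  rw [hxx] at h4
  rw [h4]
  exact_mod_cast hp1

end Groth.Agent.VdWPurity4
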